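import Cfsg.Agent.Bt.Out.Fi23.D

set_option autoImplicit false
set_option maxRecDepth 1000000
set_option Elab.async false

namespace CF.Bt.OutFi23

open CF.Comp

theorem sl_0_0 : allFrom (slpP (lapp X X1) 31671 W 3 0) 0 15 = true := by decide +kernel
theorem sl_1_0 : allFrom (slpP (lapp X X1) 31671 W 3 1) 0 15 = true := by decide +kernel
theorem sl_2_0 : allFrom (slpP (lapp X X1) 31671 W 3 2) 0 15 = true := by decide +kernel
theorem sl_3_0 : allFrom (slpP (lapp X X1) 31671 W 3 3) 0 15 = true := by decide +kernel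
theorem sl_4_0 : allFrom (slpP (lapp X X1) 31671 W 3 4) 0 15 = true := by decide +kernel
theorem sl_5_0 : allFrom (slpP (lapp X X1) 31671 W 3 5) 0 15 = true := by decide +kernel
theorem sl_6_0 : allFrom (slpP (lapp X X1) 31671 W 3 6) 0 15 = true := by decide +kernel
theorem sl_7_0 : allFrom (slpP (lapp X X1) 31671 W 3 7) 0 15 = true := by decide +kernel
theorem sl_8_0 : allFrom (slpP (lapp X X1) 31671 W 3 8) 0 15 = true := by decide +kernel
theorem sl_9_0 : allFrom (slpP (lapp X X1) 31671 W 3 9) 0 15 = true := by decide +kernel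
theorem sl_10_0 : allFrom (slpP (lapp X X1) 31671 W 3 10) 0 15 = true := by decide +kernel
theorem sl_11_0 : allFrom (slpP (lapp X X1) 31671 W 3 11) 0 15 = true := by decide +kernel
theorem tb_0_0 : allFrom (tabAt P (lapp X X1) 31671 ts (gensU 15) 0) 0 15 = true := by decide +kernel
theorem tb_1_0 : allFrom (tabAt P (lapp X X1) 31671 ts (gensU 15) 1) 0 15 = true := by decide +kernel
theorem tb_2_0 : allFrom (tabAt P (lapp X X1) 31671 ts (gensU 15) 2) 0 15 = true := by decide +kernel
theorem tb_3_0 : allFrom (tabAt P (lapp X X1) 31671 ts (gensU 15) 3) 0 15 = true := by decide +kernel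
theorem tb_4_0 : allFrom (tabAt P (lapp X X1) 31671 ts (gensU 15) 4) 0 15 = true := by decide +kernel
theorem tb_5_0 : allFrom (tabAt P (lapp X X1) 31671 ts (gensU 15) 5) 0 15 = true := by decide +kernel
theorem tb_6_0 : allFrom (tabAt P (lapp X X1) 31671 ts (gensU 15) 6) 0 15 = true := by decide +kernel
theorem tb_7_0 : allFrom (tabAt P (lapp X X1) 31671 ts (gensU 15) 7) 0 15 = true := by decide +kernel
theorem tb_8_0 : allFrom (tabAt P (lapp X X1) 31671 ts (gensU 15) 8) 0 15 = true := by decide +kernel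
theorem tb_9_0 : allFrom (tabAt P (lapp X X1) 31671 ts (gensU 15) 9) 0 15 = true := by decide +kernel
theorem tb_10_0 : allFrom (tabAt P (lapp X X1) 31671 ts (gensU 15) 10) 0 15 = true := by decide +kernel
theorem tb_11_0 : allFrom (tabAt P (lapp X X1) 31671 ts (gensU 15) 11) 0 15 = true := by decide +kernel
theorem tb_12_0 : allFrom (tabAt P (lapp X X1) 31671 ts (gensU 15) 12) 0 15 = true := by decide +kernel
theorem tb_13_0 : allFrom (tabAt P (lapp X X1) 31671 ts (gensU 15) 13) 0 15 = true := by decide +kernel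
theorem tb_14_0 : allFrom (tabAt P (lapp X X1) 31671 ts (gensU 15) 14) 0 15 = true := by decide +kernel
theorem tb_15_0 : allFrom (tabAt P (lapp X X1) 31671 ts (gensU 15) 15) 0 15 = true := by decide +kernel
theorem tb_16_0 : allFrom (tabAt P (lapp X X1) 31671 ts (gensU 15) 16) 0 15 = true := by decide +kernel
theorem tb_17_0 : allFrom (tabAt P (lapp X X1) 31671 ts (gensU 15) 17) 0 15 = true := by decide +kernel
theorem tb_18_0 : allFrom (tabAt P (lapp X X1) 31671 ts (gensU 15) 18) 0 15 = true := by decide +kernel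
theorem tb_19_0 : allFrom (tabAt P (lapp X X1) 31671 ts (gensU 15) 19) 0 15 = true := by decide +kernel
theorem tb_20_0 : allFrom (tabAt P (lapp X X1) 31671 ts (gensU 15) 20) 0 15 = true := by decide +kernel
theorem tb_21_0 : allFrom (tabAt P (lapp X X1) 31671 ts (gensU 15) 21) 0 15 = true := by decide +kernel
theorem tb_22_0 : allFrom (tabAt P (lapp X X1) 31671 ts (gensU 15) 22) 0 15 = true := by decide +kernel
theorem tb_23_0 : allFrom (tabAt P (lapp X X1) 31671 ts (gensU 15) 23) 0 15 = true := by decide +kernel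
theorem tb_24_0 : allFrom (tabAt P (lapp X X1) 31671 ts (gensU 15) 24) 0 15 = true := by decide +kernel
theorem tb_25_0 : allFrom (tabAt P (lapp X X1) 31671 ts (gensU 15) 25) 0 15 = true := by decide +kernel
theorem tb_26_0 : allFrom (tabAt P (lapp X X1) 31671 ts (gensU 15) 26) 0 15 = true := by decide +kernel
theorem tb_27_0 : allFrom (tabAt P (lapp X X1) 31671 ts (gensU 15) 27) 0 15 = true := by decide +kernel
theorem tb_28_0 : allFrom (tabAt P (lapp X X1) 31671 ts (gensU 15) 28) 0 15 = true := by decide +kernel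
theorem tb_29_0 : allFrom (tabAt P (lapp X X1) 31671 ts (gensU 15) 29) 0 15 = true := by decide +kernel
theorem r1_0 : Nat.beq (repSet ap M.b (adjAt P ap TG TA1 (lmap (wpow [1]) [1, 4, 7, 8, 11]) (llen A1)) (wtree U1_0) (nat_lit 0)) S1_0 = true := by decide +kernel
theorem a1 : adjT P (lapp X X1) 31671 t Gam TG TA1 A1 (llen A1) = true := by decide +kernel
theorem c1 : adjC (lapp X X1) 31671 ap (M :: t) (lmap (wpow [1]) [1, 4, 7, 8, 11]) R1K A1 22 S1_0 = true := by decide +kernel
theorem t1 : stdT (lapp X X1) 31671 15 ap (M :: t) [[1]] A1 R1F R1K R1 23 = true := by decide +kernel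
theorem r2_0 : Nat.beq (repSet ap M.b (adjAt P ap TG TA2 (lmap (wpow (wpow [3] 1)) [1, 2, 3, 4]) (llen A2)) (wtree U2_0) (nat_lit 0)) S2_0 = true := by decide +kernel
theorem a2 : adjT P (lapp X X1) 31671 t Gam TG TA2 A2 (llen A2) = true := by decide +kernel
theorem c2 : adjC (lapp X X1) 31671 ap (M :: t) (lmap (wpow (wpow [3] 1)) [1, 2, 3, 4]) R2K A2 5 S2_0 = true := by decide +kernel
theorem t2 : stdT (lapp X X1) 31671 15 ap (M :: t) [(wpow [3] 1)] A2 R2F R2K R2 44 = true := by decide +kernel
theorem w0 : wfAll X 31671 = true := by decide +kernel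
theorem w1 : wfAll X1 31671 = true := by decide +kernel
theorem hk : P.ok 15 = true := by decide +kernel
theorem h3 : geOK (lapp X X1) 31671 (M :: t) 4089470473293004800 = true := by decide +kernel
theorem hA : outA2 ap 31671 (M :: t) 0 23 2 1 10 [1, 5] rels = true := by decide +kernel
theorem hZ : elsT ap 31671 (M :: t) (wpow [3] 1) ks vs [1763] 44 = true := by decide +kernel
theorem hB : outB2 ap 31671 (M :: t) (lmap (subst ks) vs) [1, 5] [(1, [5])] rels pts = true := by decide +kernel

end CF.Bt.OutFi23
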